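import Groth.Agent.SerrePn.Criterion
import Groth.Agent.LocH.NonVanishing
import Groth.Agent.RefStalk.Generic
import Groth.Agent.LocFree.Rank
import Groth.Agent.CartierDim.Basic
import Groth.Agent.QC.Support

/-!
# Top cohomology of some twist of a coherent module on projective space is nonzero
-/

set_option autoImplicit false
set_option backward.isDefEq.respectTransparency false
set_option linter.style.haveILetI false

universe u

open CategoryTheory CategoryTheory.Limits AlgebraicGeometry TopologicalSpace Opposite IsLocalRing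
open Groth.Agent.QC Groth.Agent.WeakAssLib Groth.Agent.RefStalk

noncomputable section

namespace Groth.Agent.TopCohNonvanish

variable {X : Scheme.{u}}

/-- The prime of the local ring at `x` cut out by a generisation. -/
def qpt {x y : X} (h : y ⤳ x) : PrimeSpectrum (X.presheaf.stalk x) :=
  PrimeSpectrum.comap (X.presheaf.stalkSpecializes h).hom (closedPoint (X.presheaf.stalk y))

theorem fromSpecStalk_qpt {x y : X} (h : y ⤳ x) : X.fromSpecStalk x (qpt h) = y := by
  have h1 := congr($(Scheme.SpecMap_stalkSpecializes_fromSpecStalk h) (closedPoint _))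
  rw [Scheme.fromSpecStalk_closedPoint, Scheme.Hom.comp_apply] at h1
  exact h1

theorem notMem_qpt {x y : X} (h : y ⤳ x) (r : X.presheaf.stalk x) :
    r ∉ (qpt h).asIdeal ↔ IsUnit ((X.presheaf.stalkSpecializes h).hom r) :=
  IsLocalRing.notMem_maximalIdeal

theorem qpt_mem_support_iff (F : X.Modules) (hF : Coh.IsCoh F) {x y : X} (h : y ⤳ x) :
    qpt h ∈ Module.support (X.presheaf.stalk x) (F.presheaf.stalk x) ↔ y ∈ CohB1.support F := by
  haveI := hF.1
  obtain ⟨U, hU, hx, -⟩ := exists_isAffineOpen_mem_and_subset (x := x) (U := (⊤ : X.Opens)) trivial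
  have hy : y ∈ U := h.mem_open U.2 hx
  haveI := QC.finite_sections hU (hM := hF.1) hF.2
  rw [Module.mem_support_iff']
  constructor
  · rintro ⟨m, hm⟩ (hsub : Subsingleton _)
    obtain ⟨a, s, ha, has⟩ := exists_germ hU (isLoc_of_isQCoh hU (hM := hF.1)) hx m
    have h0 : mgerm F hy s = 0 := hsub.elim _ _
    obtain ⟨c, hc, hcs⟩ := (germ_eq_zero_iff hU (isLoc_of_isQCoh hU (hM := hF.1)) hy s).1 h0
    have hr : (X.presheaf.germ U x hx).hom c ∉ (qpt h).asIdeal := by
      rw [notMem_qpt]
      have e : (X.presheaf.stalkSpecializes h).hom ((X.presheaf.germ U x hx).hom c) =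
          (X.presheaf.germ U y hy).hom c := X.presheaf.germ_stalkSpecializes_apply hx h c
      rw [e]
      exact isUnit_germ hU hy hc
    refine hm _ hr ((isUnit_germ hU hx ha).smul_eq_zero.1 ?_)
    rw [smul_comm, has, ← mgerm_smul, hcs, map_zero]
  · intro hne
    obtain ⟨n, s, hs⟩ := Module.Finite.exists_fin (R := Γ(X, U)) (M := Γ(F, U))
    obtain ⟨i, hi⟩ : ∃ i, mgerm F hy (s i) ≠ 0 := by
      by_contra! hall
      refine hne ?_
      have hsp := LocFree.span_germ hU hF.1 hy s hs
      have hr : Set.range (fun i => mgerm F hy (s i)) ⊆ {0} := by rintro _ ⟨i, rfl⟩; exact hall i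
      rw [← Submodule.subsingleton_iff (X.presheaf.stalk y)]
      refine subsingleton_of_bot_eq_top ?_
      rw [← hsp, eq_comm, ← le_bot_iff, ← Submodule.span_zero_singleton (X.presheaf.stalk y)]
      exact Submodule.span_mono hr
    refine ⟨mgerm F hx (s i), fun r hr h0 => hi ?_⟩
    have h2 := congrArg (msp F h) h0
    rw [msp_smul, map_zero, msp_germ] at h2
    exact ((notMem_qpt h r).1 hr).smul_eq_zero.1 h2

/-- Some closed point carries the dimension of the support. -/
theorem exists_closed_supportDim [IsLocallyNoetherian X] [CompactSpace X] (F : X.Modules) (hF : Coh.IsCoh F) (a : ℕ)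
    (hdim : topologicalKrullDim (CohB1.support F) = a) :
    ∃ x : X, IsClosed ({x} : Set X) ∧
      Module.supportDim (X.presheaf.stalk x) (F.presheaf.stalk x) = a := by
  have hcl : IsClosed (CohB1.support F) := (haveI := hF.1; QC.isClosed_support (M := F) hF.2)
  haveI : QuasiSober ↥(CohB1.support F) := hcl.isClosedEmbedding_subtypeVal.quasiSober
  letI : PartialOrder ↥(CohB1.support F) := specializationOrder _
  letI : Preorder ↥(CohB1.support F) := (specializationOrder ↥(CohB1.support F)).toPreorder
  rw [CartierDim.topDim_eq] at hdim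
  obtain ⟨l, hl⟩ := Order.le_krullDim_iff.1 hdim.ge
  obtain ⟨x, hxl, hxc⟩ := (isClosed_closure (s := ({(l.head).1} : Set X))).exists_closed_singleton
    ⟨_, subset_closure rfl⟩
  have hhead : (l.head).1 ⤳ x := specializes_iff_mem_closure.2 hxl
  have hgen : ∀ i, (l i).1 ⤳ x := fun i =>
    ((subtype_specializes_iff _ _).1 (show l i ⤳ l.head from LTSeries.head_le l i)).trans hhead
  refine ⟨x, hxc, le_antisymm ?_ ?_⟩
  · rw [Module.supportDim]
    refine le_trans ?_ ((Order.krullDim_orderDual (α := ↥(CohB1.support F))).le.trans hdim.le)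
    refine Order.krullDim_le_of_strictMono
      (fun q => OrderDual.toDual (⟨X.fromSpecStalk x q.1, ?_⟩ : ↥(CohB1.support F))) fun p q hpq => ?_
    · have hy : X.fromSpecStalk x q.1 ⤳ x := by
        have : X.fromSpecStalk x q.1 ∈ Set.range (X.fromSpecStalk x) := ⟨q.1, rfl⟩
        rwa [Scheme.range_fromSpecStalk] at this
      have e : qpt hy = q.1 := (X.fromSpecStalk x).isEmbedding.injective (fromSpecStalk_qpt hy)
      exact (qpt_mem_support_iff F hF hy).1 (e.symm ▸ q.2)
    · have hle : (p.1 : Spec (X.presheaf.stalk x)) ⤳ q.1 := (PrimeSpectrum.le_iff_specializes p.1 q.1).1 hpq.le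
      refine lt_of_le_of_ne ?_ fun he => hpq.ne (Subtype.ext
        ((X.fromSpecStalk x).isEmbedding.injective
          (show X.fromSpecStalk x p.1 = X.fromSpecStalk x q.1 from congrArg (fun z => (OrderDual.ofDual z).1) he)))
      exact (subtype_specializes_iff _ _).2 (hle.map (X.fromSpecStalk x).continuous)
  · rw [Module.supportDim]
    refine Order.le_krullDim_iff.2 ⟨LTSeries.mk l.length
      (fun i => (⟨qpt (hgen i.rev), (qpt_mem_support_iff F hF _).2 (l i.rev).2⟩ :
        ↥(Module.support (X.presheaf.stalk x) (F.presheaf.stalk x)))) fun i j hij => ?_, hl⟩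
    have hlt := l.strictMono (Fin.rev_lt_rev.2 hij)
    have hsp : (l i.rev).1 ⤳ (l j.rev).1 :=
      (subtype_specializes_iff _ _).1 (show l i.rev ⤳ l j.rev from le_of_lt hlt)
    refine lt_of_le_of_ne ((PrimeSpectrum.le_iff_specializes _ _).2 ?_) fun he => hlt.ne' (Subtype.ext ?_)
    · refine (X.fromSpecStalk x).isEmbedding.isInducing.specializes_iff.1 ?_
      rw [fromSpecStalk_qpt, fromSpecStalk_qpt]
      exact hsp
    · have he' : qpt (hgen i.rev) = qpt (hgen j.rev) := congrArg Subtype.val he
      exact ((fromSpecStalk_qpt (hgen i.rev)).symm.trans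
        (congrArg (fun z => X.fromSpecStalk x z) he')).trans (fromSpecStalk_qpt (hgen j.rev))

variable {k : Type u} [Field k] {n : ℕ}

theorem exists_twist_nontrivial (G : (CohB1.ProjSpace n k).Modules) (hG : Coh.IsCoh G) (a : ℕ)
    (hdim : topologicalKrullDim (CohB1.support G) = a) :
    ∃ m : ℤ, Nontrivial (Coh.HH (CohB1.ProjSpace n k) (Twist.twistBy (CohB1.polyGrading n k) G m) a) := by
  haveI := CohFinite.isNoetherian_projSpace n k
  obtain ⟨x, hx, hd⟩ := exists_closed_supportDim G hG a hdim
  haveI := RegDual.finite_stalk hG x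
  haveI : Nontrivial (G.presheaf.stalk x) := by
    by_contra hn
    rw [not_nontrivial_iff_subsingleton, ← Module.supportDim_eq_bot_iff_subsingleton
      ((CohB1.ProjSpace n k).presheaf.stalk x), hd] at hn
    exact absurd hn (by simp)
  have hnv : ¬ SerrePn.Van G a := fun hv =>
    not_subsingleton_iff_nontrivial.2 (LocH.nontrivial_at_supportDim _ a hd) ((SerrePn.van_iff_local G hG a).1 hv x hx)
  by_contra! hall
  exact hnv ⟨0, fun m _ => hall (-m)⟩

end Groth.Agent.TopCohNonvanish
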